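/-!
The relators of `Cfsg.Spor.He` as numeric words.
-/

set_option autoImplicit false

namespace CfsgLib.Coset.He

/-- The relators as numeric words. -/
def rels : List (List Nat) := [[0, 0], [0, 1, 0, 1, 0, 1, 0, 1], [0, 2, 0, 2], [0, 3, 0, 3], [0, 4, 0, 4], [0, 5, 0, 5], [0, 6, 0, 6], [1, 1], [1, 2, 1, 2, 1, 2], [1, 3, 1, 3], [1, 4, 1, 4], [1, 5, 1, 5], [1, 6, 1, 6], [2, 2], [2, 3, 2, 3, 2, 3, 2, 3, 2, 3, 2, 3, 2, 3, 2, 3, 2, 3, 2, 3], [2, 4, 2, 4], [2, 5, 2, 5], [2, 6, 2, 6], [3, 3], [3, 4, 3, 4, 3, 4], [3, 5, 3, 5, 3, 5], [3, 6, 3, 6, 3, 6], [4, 4], [4, 5, 4, 5], [4, 6, 4, 6], [5, 5], [5, 6, 5, 6, 5, 6, 5, 6], [6, 6], [4, 6, 5, 6, 5], [4, 2, 1, 0, 2, 1, 0, 2, 1, 0], [0, 3, 2, 3, 2, 3, 2, 3, 2, 3, 2], [2, 3, 5, 6, 2, 3, 5, 6, 2, 3, 5, 6, 2, 3, 5, 6]]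

/-- The word `(c d e) ^ 5`, a consequence of the relators. -/
def cde5 : List Nat := [2, 3, 4, 2, 3, 4, 2, 3, 4, 2, 3, 4, 2, 3, 4]

/-- The relators together with `(c d e) ^ 5`. -/
def rels5 : List (List Nat) := rels ++ [cde5]

end CfsgLib.Coset.He
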