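import Cfsg.Agent.Coset.He.MTable0
import Cfsg.Agent.Coset.He.MSteps0
import Mathlib.Tactic.IntervalCases

set_option autoImplicit false
set_option maxRecDepth 100000
set_option Elab.async false

namespace CfsgLib.Coset.He.M

theorem hR : checkRules rels subs R = true := by decide +kernel
theorem hdefs : checkDefs E 7 15 25212 = true := by decide +kernel
theorem hsteps : checkChunks E id R 7 (8 + 2) 25212 1002 C = true :=
  checkChunks_of_blocks (by decide +kernel) fun b hb => by
    have : b < 4 := hb
    interval_cases b
    · exact hsteps0
    · exact hsteps1
    · exact hsteps2
    · exact hsteps3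

theorem htable : checkTable E id (25212 + chunk * 1002) 24990 7 (13 + 2) 3 Rep Ref Tb = true :=
  checkTable_of_blocks (by decide +kernel) (by decide +kernel) fun b hb => by
    have : b < 4 := hb
    interval_cases b
    · exact htable0
    · exact htable1
    · exact htable2
    · exact htable3

end CfsgLib.Coset.He.M
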