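import Cfsg.Agent.Coset.He.Main
import Cfsg.Agent.Coset.He.M
import Cfsg.Agent.Coset.He.T1
import Cfsg.Agent.Coset.He.T2
import Cfsg.Agent.Coset.He.T3
import Cfsg.Agent.Coset.He.Col

/-! The presented group `Cfsg.Spor.He`: order and simplicity. -/

set_option autoImplicit false
set_option maxRecDepth 100000
set_option Elab.async false

namespace CfsgLib.Coset.He

theorem card_cd : Finite (genBy Lg [2, 3]) ∧ Nat.card (genBy Lg [2, 3]) ≤ 20 * 1 := by
  have c : checkLevel rels 7 [2, 3] [] T3.lrels T3.subs = true := by decide +kernel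
  exact level_card (level 20 ev_rels 2 rfl c T3.hR T3.hdefs T3.hsteps T3.htable) (by decide) c
    card_genBy_nil

theorem card_abcde : Finite (genBy Lg [0, 1, 2, 3, 4]) ∧
    Nat.card (genBy Lg [0, 1, 2, 3, 4]) ≤ 756 * (20 * 1) := by
  have c : checkLevel rels 7 [0, 1, 2, 3, 4] [2, 3] A.lrels A.subs = true := by decide +kernel
  exact level_card (level 756 ev_rels 5 rfl c A.hR A.hdefs A.hsteps A.htable) (by decide) c card_cd

theorem eq_of_perm_abcde {v w : List Nat} (hv : (v.all fun l => [0, 1, 2, 3, 4].contains l) = true)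
    (hw : (w.all fun l => [0, 1, 2, 3, 4].contains l) = true)
    (h : allBelow 12 2058 (fun i => Nat.beq (follow (tget Top.Tb) i v) (follow (tget Top.Tb) i w)) =
      true) : ev Lg v = ev Lg w := by
  simp only [List.all_eq_true, List.contains_iff_mem] at hv hw
  set T := genBy Lg [0, 1, 2, 3, 4]
  have hT : ∀ u : List Nat, (∀ l ∈ u, l ∈ [0, 1, 2, 3, 4]) → ev Lg u ∈ T :=
    fun u hu => ev_mem_genBy _ hu
  have hl : ∀ u : List Nat, (∀ l ∈ u, l ∈ [0, 1, 2, 3, 4]) → ∀ l ∈ u, l < (Lg).length := by
    intro u hu l hl'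
    have := hu l hl'
    rw [len_Lg]
    simp at this
    omega
  have := card_abcde.1
  have hgens : ∀ ws : List (List Nat), (ws.all fun w => w.all fun l =>
      [0, 1, 2, 3, 4].contains l) = true → ∀ w ∈ ws, ev Lg w ∈ T := by
    intro ws h w hmem
    simp only [List.all_eq_true, List.contains_iff_mem] at h
    exact hT w fun l hl => h w hmem l hl
  have h2 := card_inf_ker_le (ρ := ρ) T [(46 : Fin 2058), 18]
  have h1 := orbit_step_in matches_ρ T (base := [(46 : Fin 2058)]) (β := 18) (m := 20) (dm := 5)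
    (gens := Orb.A1G) (P := Orb.A1P) (Inv := Orb.A1Inv)
    (by decide +kernel) (by decide +kernel) (by decide +kernel) (hgens _ (by decide +kernel)) h2
  have h0 := orbit_step_in matches_ρ T (base := []) (β := 46) (m := 756) (dm := 10)
    (gens := Orb.A0G) (P := Orb.A0P) (Inv := Orb.A0Inv)
    (by decide +kernel) (by decide +kernel) (by decide +kernel) (hgens _ (by decide +kernel)) h1
  refine eq_of_map_eq (ρ := ρ) (N := 756 * (20 * 1)) card_abcde.2 (by rw [mul_one, mul_assoc]; exact h0)
    (hT v hv) (hT w hw) ?_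
  refine inv_injective (Equiv.ext fun i => Fin.ext ?_)
  rw [matches_ρ.follow_eq v i (hl v hv), matches_ρ.follow_eq w i (hl w hw)]
  exact Nat.eq_of_beq_eq_true (of_allBelow h i i.2)

theorem ev_rels5 : ∀ w ∈ rels5, ev Lg w = 1 := by
  intro w hw
  rcases List.mem_append.mp hw with hw | hw
  · exact ev_rels w hw
  · rw [List.mem_singleton.mp hw]
    exact (eq_of_perm_abcde (v := cde5) (w := []) (by decide +kernel) (by decide +kernel)
      (by decide +kernel)).trans (ev_nil (L := Lg))

theorem card_acdefg : Finite (genBy Lg [0, 2, 3, 4, 5, 6]) ∧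
    Nat.card (genBy Lg [0, 2, 3, 4, 5, 6]) ≤ 672 * (6 * (20 * 1)) := by
  have c1 : checkLevel rels5 7 [0, 2, 3, 4, 5, 6] [0, 2, 3, 4] T1.lrels T1.subs = true := by
    decide +kernel
  have c2 : checkLevel rels5 7 [0, 2, 3, 4] [2, 3] T2.lrels T2.subs = true := by decide +kernel
  exact level_card (level 672 ev_rels5 6 rfl c1 T1.hR T1.hdefs T1.hsteps T1.htable) (by decide) c1
    (level_card (level 6 ev_rels5 4 rfl c2 T2.hR T2.hdefs T2.hsteps T2.htable) (by decide) c2
      card_cd)

theorem card_M : Finite (genW Lg M.subs) ∧ Nat.card (genW Lg M.subs) ≤ 161280 := by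
  have hS : genBy Lg [0, 2, 3, 4, 5, 6] =
      Subgroup.closure (ev Lg '' {w | w ∈ [[0], [2], [3], [4], [5], [6]]}) :=
    (genW_singletons [0, 2, 3, 4, 5, 6]).symm
  have hins : genW Lg M.subs =
      Subgroup.closure (insert (ev Lg [1, 0, 1]) (ev Lg '' {w | w ∈ [[0], [2], [3], [4], [5], [6]]})) := by
    rw [← Set.image_insert_eq, genW]
    congr 2
    ext w
    simp only [M.subs, Set.mem_insert_iff, Set.mem_ofPred_eq, List.mem_cons, List.not_mem_nil,
      or_false]
    tauto
  obtain ⟨hf, hc⟩ := card_acdefg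
  rw [hS] at hf hc
  have hx : ev Lg [1, 0, 1] * ev Lg [1, 0, 1] = 1 := by
    rw [← ev_append]
    exact (eq_of_perm_abcde (v := [1, 0, 1] ++ [1, 0, 1]) (w := []) (by decide +kernel)
      (by decide +kernel) (by decide +kernel)).trans (ev_nil (L := Lg))
  have hconj : ∀ y ∈ ev Lg '' {w | w ∈ [[0], [2], [3], [4], [5], [6]]},
      ev Lg [1, 0, 1] * y * ev Lg [1, 0, 1] ∈
        Subgroup.closure (ev Lg '' {w | w ∈ [[0], [2], [3], [4], [5], [6]]}) := by
    have hcomm : ∀ l p : Nat, ev Lg [l, p, l, p] = 1 → fl Lg l * fl Lg p = fl Lg p * fl Lg l := by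
      intro l p h
      simp only [ev_cons, ev_nil, mul_one] at h
      have e : fl Lg l * fl Lg p = (fl Lg l * fl Lg p)⁻¹ :=
        eq_inv_of_mul_eq_one_left (by simpa [mul_assoc] using h)
      conv_lhs => rw [e]
      rw [mul_inv_rev, inv_eq_of_mul_eq_one_right (sq_all l), inv_eq_of_mul_eq_one_right (sq_all p)]
    have hfix : ∀ l : Nat, ev Lg [l, 0, l, 0] = 1 → ev Lg [l, 1, l, 1] = 1 →
        ev Lg [1, 0, 1] * ev Lg [l] * ev Lg [1, 0, 1] = ev Lg [l] := by
      intro l ha hb
      have ca : Commute (ev Lg [l]) (ev Lg [1, 0, 1]) := by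
        have h0 : Commute (fl Lg l) (fl Lg 0) := hcomm l 0 ha
        have h1 : Commute (fl Lg l) (fl Lg 1) := hcomm l 1 hb
        simpa using (h1.mul_right (h0.mul_right h1))
      rw [← ca.eq, mul_assoc, hx, mul_one]
    rintro y ⟨w, hw, rfl⟩
    simp only [Set.mem_ofPred_eq, List.mem_cons, List.not_mem_nil, or_false] at hw
    rw [← hS]
    have hmem : ∀ u : List Nat, (∀ l ∈ u, l ∈ [0, 2, 3, 4, 5, 6]) →
        ev Lg u ∈ genBy Lg [0, 2, 3, 4, 5, 6] := fun u hu => ev_mem_genBy _ hu
    rcases hw with rfl | rfl | rfl | rfl | rfl | rfl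
    · rw [← ev_append, ← ev_append, eq_of_perm_abcde (v := [1, 0, 1] ++ [0] ++ [1, 0, 1]) (w := [0])
        (by decide +kernel) (by decide +kernel) (by decide +kernel)]
      exact hmem _ (by decide)
    · rw [← ev_append, ← ev_append, eq_of_perm_abcde (v := [1, 0, 1] ++ [2] ++ [1, 0, 1])
        (w := [0, 2, 4]) (by decide +kernel) (by decide +kernel) (by decide +kernel)]
      exact hmem _ (by decide)
    · rw [← ev_append, ← ev_append, eq_of_perm_abcde (v := [1, 0, 1] ++ [3] ++ [1, 0, 1]) (w := [3])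
        (by decide +kernel) (by decide +kernel) (by decide +kernel)]
      exact hmem _ (by decide)
    · rw [← ev_append, ← ev_append, eq_of_perm_abcde (v := [1, 0, 1] ++ [4] ++ [1, 0, 1]) (w := [4])
        (by decide +kernel) (by decide +kernel) (by decide +kernel)]
      exact hmem _ (by decide)
    · rw [hfix 5]
      · exact hmem _ (by decide)
      · exact ev_of_pair 5 0 (by decide +kernel)
      · exact ev_of_pair 5 1 (by decide +kernel)
    · rw [hfix 6]
      · exact hmem _ (by decide)
      · exact ev_of_pair 6 0 (by decide +kernel)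
      · exact ev_of_pair 6 1 (by decide +kernel)
  rw [hins]
  obtain ⟨h1, h2⟩ := card_closure_insert_le hf hc hx hconj
  exact ⟨h1, h2.trans (by norm_num)⟩
where
  ev_of_pair (l p : Nat) (h : rels.contains [p, l, p, l] = true) : ev Lg [l, p, l, p] = 1 := by
    have := ev_rels _ (List.contains_iff_mem.mp h)
    simp only [ev_cons, ev_nil, mul_one] at this ⊢
    have e : fl Lg p * fl Lg l = (fl Lg p * fl Lg l)⁻¹ :=
      eq_inv_of_mul_eq_one_left (by simpa [mul_assoc] using this)
    rw [mul_inv_rev, inv_eq_of_mul_eq_one_right (sq_all l),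
      inv_eq_of_mul_eq_one_right (sq_all p)] at e
    rw [← mul_assoc (fl Lg l), ← e]
    simpa [mul_assoc] using this

theorem M_table : TableOK Lg (genW Lg M.subs) M.E id 24990 M.Rep M.Tb :=
  tableOK_of_check inv_all M.hR M.hdefs M.hsteps M.htable ev_rels (fun _ hw => ev_mem_genW hw)

theorem card_le : Finite Cfsg.Spor.He ∧ Nat.card Cfsg.Spor.He ≤ 4030387200 := by
  obtain ⟨hf, hc⟩ := M_table.finite_card_le (by decide) (closure_Lg ▸ le_top) card_M.1 card_M.2
  rw [closure_Lg] at hf hc
  rw [Subgroup.card_top] at hc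
  exact ⟨Finite.of_equiv _ Subgroup.topEquiv.toEquiv, hc.trans (by norm_num)⟩

theorem card_and_injective : Nat.card Cfsg.Spor.He = 4030387200 ∧ Function.Injective ρ := by
  have := card_le.1
  refine card_eq_and_injective (by decide) card_le.2 ?_
  have h4 := card_ker_le (ρ := ρ) [(0 : Fin 2058), 1, 15, 34]
  have h3 := orbit_step matches_ρ (base := [(0 : Fin 2058), 1, 15]) (β := 34) (m := 4) (dm := 2)
    (gens := Orb.B3G) (P := Orb.B3P) (Inv := Orb.B3Inv)
    (by decide +kernel) (by decide +kernel) (by decide +kernel) h4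
  have h2 := orbit_step matches_ρ (base := [(0 : Fin 2058), 1]) (β := 15) (m := 360) (dm := 9)
    (gens := Orb.B2G) (P := Orb.B2P) (Inv := Orb.B2Inv)
    (by decide +kernel) (by decide +kernel) (by decide +kernel) h3
  have h1 := orbit_step matches_ρ (base := [(0 : Fin 2058)]) (β := 1) (m := 1360) (dm := 11)
    (gens := Orb.B1G) (P := Orb.B1P) (Inv := Orb.B1Inv)
    (by decide +kernel) (by decide +kernel) (by decide +kernel) h2
  have h0 := orbit_step matches_ρ (base := []) (β := 0) (m := 2058) (dm := 12)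
    (gens := Orb.B0G) (P := Orb.B0P) (Inv := Orb.B0Inv)
    (by decide +kernel) (by decide +kernel) (by decide +kernel) h1
  simpa [← mul_assoc] using h0

/-- A word of order 7. -/
def u : List Nat := [3, 5, 6]

theorem u_pow : ev Lg u ^ 7 ^ 3 = 1 := by
  rw [show (7 : ℕ) ^ 3 = 7 * 49 by norm_num, pow_mul]
  suffices h : ev Lg u ^ 7 = 1 by rw [h, one_pow]
  apply card_and_injective.2
  rw [map_one, pow_ev]
  have hc : checkRels 2058 12 Top.Tb [(List.replicate 7 u).flatten] = true := by decide +kernel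
  refine Equiv.ext fun i => ?_
  have h := allList_iff.mp (of_allBelow hc i i.2) _ (List.mem_singleton_self _)
  have hl : ∀ l ∈ (List.replicate 7 u).flatten, l < (Lg).length := by decide +kernel
  exact (matches_ρ.fix_iff hl).mpr (Nat.eq_of_beq_eq_true h)

theorem collapse (N : Subgroup Cfsg.Spor.He) [N.Normal] (hu : ev Lg u ∈ N) : N = ⊤ := by
  refine eq_top_of_collapse closure_Lg N hu fun L' hlen hL h1 => ?_
  have hl : L'.length = 7 := hlen
  have hr : ∀ w ∈ Col.crels, ev L' w = 1 := by
    intro w hw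
    rcases List.mem_append.mp hw with hw | hw
    · rw [hL, ev_rels w hw, map_one]
    · rw [List.mem_singleton.mp hw]; exact h1
  have hinv : ∀ x, fl L' (id x) = (fl L' x)⁻¹ := by
    intro x
    refine eq_inv_of_mul_eq_one_left ?_
    have := hL [x, x]
    simp only [ev_cons, ev_nil, mul_one, sq_all, map_one] at this
    exact this
  have hsub : ∀ w ∈ Col.subs, ev L' w ∈ (⊥ : Subgroup (Cfsg.Spor.He ⧸ N)) := by
    intro w hw; simp [Col.subs] at hw
  exact all_one_of_table (tableOK_of_check hinv Col.hR (hl.symm ▸ Col.hdefs)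
    (hl.symm ▸ Col.hsteps) (hl.symm ▸ Col.htable) hr hsub)

theorem isSimple : IsSimpleGroup Cfsg.Spor.He := by
  have := card_le.1
  have : Fact (Nat.Prime 7) := ⟨by norm_num⟩
  have hmax := pstab_isCoatom_of_orbits matches_ρ (by decide) orbits_ok subs_letters cover_ok
    transitive (by decide +kernel) index_and_eq.2.le (by decide +kernel) (by decide +kernel)
  refine isSimpleGroup_of_action (by decide) card_and_injective.2 transitive hmax
    (p := 7) (a := 3) (by norm_num) ?_ (ev Lg u) u_pow fun N hN hu => ?_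
  · rw [card_and_injective.1]; norm_num
  · exact @collapse N hN hu

theorem isHe : Cfsg.IsHe Cfsg.Spor.He := ⟨isSimple, card_and_injective.1⟩

end CfsgLib.Coset.He
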