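import Cfsg.Agent.Coset.Pres
import Cfsg.Agent.Coset.He.Rels
import Cfsg.Prelude.Def_Spor_He

/-! The presentation of `Cfsg.Spor.He` as lists of words. -/

set_option autoImplicit false

namespace CfsgLib.Coset.He

open Cfsg.Spor

/-- Generator numbering. -/
def ix : He.Gen → Nat
  | .a => 0 | .b => 1 | .c => 2 | .d => 3 | .e => 4 | .f => 5 | .g => 6

/-- The presentation data. -/
@[reducible] def pres : PresData He.Gen where
  edges := He.edges
  nodes := [.a, .b, .c, .d, .e, .f, .g]
  extra := He.extra
  ix := ix

theorem pres_ok : pres.OK := ⟨by intro x; cases x <;> decide⟩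

end CfsgLib.Coset.He

namespace CfsgLib.Coset.He

theorem rels_eq : pres.rels = rels := by decide +kernel

end CfsgLib.Coset.He
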