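import Cfsg.Agent.Coset.He.Order
import Cfsg.Agent.Coset.He.Inv2BData

/-!
The centraliser of the involution `g` of `Cfsg.Spor.He`: its order, and an action of it on
sixteen cosets with explicit permutations.
-/

set_option autoImplicit false
set_option maxRecDepth 100000
set_option Elab.async false

namespace CfsgLib.Coset

/-- Number of `j < m` passing a test. -/
noncomputable def cnt (p : Nat → Bool) (m : Nat) : Nat :=
  Nat.rec 0 (fun j ih => cond (p j) (Nat.add ih 1) ih) m

theorem ncard_le_cnt {n : Nat} (p : Nat → Bool) (P : Nat → Nat) (m : Nat) :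
    {i : Fin n | ∃ j < m, p j = true ∧ P j = i}.ncard ≤ cnt p m := by
  induction m with
  | zero => simp
  | succ m ih =>
    have hsub : {i : Fin n | ∃ j < m + 1, p j = true ∧ P j = i} ⊆
        {i : Fin n | ∃ j < m, p j = true ∧ P j = i} ∪ {i : Fin n | p m = true ∧ P m = i} := by
      rintro i ⟨j, hj, hp, he⟩
      rcases Nat.lt_succ_iff_lt_or_eq.mp hj with h | rfl
      · exact Or.inl ⟨j, h, hp, he⟩
      · exact Or.inr ⟨hp, he⟩
    refine (Set.ncard_le_ncard hsub (Set.toFinite _)).trans ((Set.ncard_union_le _ _).trans ?_)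
    show _ ≤ cond (p m) (cnt p m + 1) (cnt p m)
    cases hp : p m
    · simpa using ih
    · have : {i : Fin n | true = true ∧ P m = i}.ncard ≤ 1 := by
        rw [Set.ncard_le_one]
        rintro a ⟨-, ha⟩ b ⟨-, hb⟩
        exact Fin.ext (ha.symm.trans hb)
      simp only [cond_true, true_and] at this ⊢
      omega

variable {G : Type*} [Group G] {L : List G} {n : Nat} {Tb : Nat → Nat}
  {ρ : G →* Equiv.Perm (Fin n)}

/-- An orbit with a certificate of full size consists of the listed points. -/
theorem Matches.orb_eq_list (hm : Matches L ρ Tb) {S : Subgroup G} {β : Fin n} {m dm : Nat}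
    {gens : List (List Nat)} {P Inv : Nat → Nat} (hc : checkOrbit Tb β m dm gens P Inv = true)
    (hl : checkLetters L.length gens = true) (hS : ∀ w ∈ gens, ev L w ∈ S)
    (hcard : (orb ρ S β).ncard ≤ m) : orb ρ S β = {i : Fin n | ∃ j < m, opt P j = i} := by
  obtain ⟨-, hpts⟩ := hm.orbit_le hc hl (S := S) hS
  have hsub : {i : Fin n | ∃ j < m, opt P j = i} ⊆ orb ρ S β := by
    rintro i ⟨j, hj, he⟩
    obtain ⟨x, hx, hxe⟩ := hpts j hj
    rwa [show i = x from Fin.ext (he.symm.trans hxe.symm)]
  refine (Set.eq_of_subset_of_ncard_le hsub (hcard.trans ?_) (Set.toFinite _)).symm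
  choose x hx hxe using hpts
  let T : Set (Fin n) := {i : Fin n | ∃ j < m, opt P j = i}
  have : Function.Injective (fun j : Fin m => (⟨x j j.2, ⟨j, j.2, (hxe _ _).symm⟩⟩ : T)) := by
    intro a b hab
    have h1 : (x a a.2 : Nat) = x b b.2 := congrArg (fun y : T => ((y : Fin n) : Nat)) hab
    rw [hxe, hxe] at h1
    have hc' := (cond_false_eq_true.mp hc).2
    have ha := Nat.eq_of_beq_eq_true (cond_false_eq_true.mp (of_allBelow hc' a a.2)).1
    have hb := Nat.eq_of_beq_eq_true (cond_false_eq_true.mp (of_allBelow hc' b b.2)).1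
    rw [h1] at ha
    exact Fin.ext (ha.symm.trans hb)
  have hle := Nat.card_le_card_of_injective _ this
  rw [Nat.card_fin, Nat.card_coe_set_eq] at hle
  exact hle

end CfsgLib.Coset

namespace CfsgLib.Coset.He.Inv2B

/-- The involution. -/
noncomputable abbrev Z : Cfsg.Spor.He := ev Lg [6]

/-- Its centraliser. -/
noncomputable abbrev Cz : Subgroup Cfsg.Spor.He := Subgroup.centralizer {Z}

/-- Expand a word in the generators of the centraliser. -/
def flatC (w : List Nat) : List Nat := (w.map fun k => Cg.getD k []).flatten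

theorem cg_letters : checkLetters (Lg).length Cg = true := by decide +kernel

/-- The base. -/
def b0 : Fin 2058 := ⟨5, by decide⟩
/-- The base. -/
def b1 : Fin 2058 := ⟨6, by decide⟩
/-- The base. -/
def b2 : Fin 2058 := ⟨15, by decide⟩
/-- The base. -/
def b3 : Fin 2058 := ⟨42, by decide⟩

theorem orb_top (β : Fin 2058) : (orb ρ (⊤ : Subgroup Cfsg.Spor.He) β).ncard = 2058 := by
  have : orb ρ (⊤ : Subgroup Cfsg.Spor.He) β = Set.univ := by
    refine Set.eq_univ_of_forall fun i => ?_
    obtain ⟨g, hg⟩ := transitive i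
    obtain ⟨h, hh⟩ := transitive β
    exact ⟨g * h⁻¹, trivial, by rw [map_mul, map_inv, Equiv.Perm.mul_apply, ← hh,
      Equiv.Perm.inv_def, Equiv.symm_apply_apply, hg]⟩
  rw [this, Set.ncard_univ, Nat.card_fin]

theorem stab_cards :
    Nat.card (baseStab ρ [b0]) = 1958400 ∧ Nat.card (baseStab ρ [b0, b1]) = 1440 ∧
    Nat.card (baseStab ρ [b0, b1, b2]) = 16 ∧ baseStab ρ [b0, b1, b2, b3] = ⊥ := by
  have := card_le.1
  have e0 : baseStab ρ [b0] = ⊤ ⊓ pstab ρ b0 := rfl
  have h0 := card_orb_mul (ρ := ρ) ⊤ b0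
  rw [orb_top, Subgroup.card_top, card_and_injective.1, ← e0] at h0
  have hp : 0 < Nat.card (baseStab ρ [b0, b1, b2, b3]) := Nat.card_pos
  have h1 : 1360 * Nat.card (baseStab ρ [b0, b1]) ≤ Nat.card (baseStab ρ [b0]) :=
    orbit_step matches_ρ (base := [b0]) (β := b1) (dm := 11) (gens := H1G) (P := H1P) (Inv := H1Inv)
      (by decide +kernel) (by decide +kernel) (by decide +kernel) le_rfl
  have h2 : 90 * Nat.card (baseStab ρ [b0, b1, b2]) ≤ Nat.card (baseStab ρ [b0, b1]) :=
    orbit_step matches_ρ (base := [b0, b1]) (β := b2) (dm := 7) (gens := H2G) (P := H2P)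
      (Inv := H2Inv) (by decide +kernel) (by decide +kernel) (by decide +kernel) le_rfl
  have h3 : 16 * Nat.card (baseStab ρ [b0, b1, b2, b3]) ≤ Nat.card (baseStab ρ [b0, b1, b2]) :=
    orbit_step matches_ρ (base := [b0, b1, b2]) (β := b3) (dm := 4) (gens := H3G) (P := H3P)
      (Inv := H3Inv) (by decide +kernel) (by decide +kernel) (by decide +kernel) le_rfl
  refine ⟨by omega, by omega, by omega, Subgroup.eq_bot_of_card_eq _ (by omega)⟩

theorem base_bot : baseStab ρ [b0, b1, b2, b3] = ⊥ := stab_cards.2.2.2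

theorem fix_of_commute {g : Cfsg.Spor.He} (hg : g ∈ Cz) {x : Fin 2058} (hx : ρ Z x = x) :
    ρ Z (ρ g x) = ρ g x := by
  have h := Subgroup.mem_centralizer_singleton_iff.mp hg
  rw [← Equiv.Perm.mul_apply, ← map_mul, ← h, map_mul, Equiv.Perm.mul_apply, hx]

theorem fix_iff (x : Fin 2058) : ρ Z x = x ↔ tget Top.Tb x 6 = x :=
  matches_ρ.fix_iff (w := [6]) (by decide +kernel)

theorem upper_step (base : List (Fin 2058)) (β : Fin 2058) {m dm : Nat} {gens : List (List Nat)}
    {P Inv : Nat → Nat} {A B : Nat}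
    (hA : Nat.card (baseStab ρ base) = A) (hB : Nat.card (baseStab ρ (base ++ [β])) = B)
    (hAB : A = m * B) (hB0 : 0 < B)
    (hc : checkOrbit Top.Tb β m dm gens P Inv = true)
    (hl : checkLetters (Lg).length gens = true)
    (hf : checkFix Top.Tb (base.map Fin.val) gens = true)
    {c : Nat} (hcnt : Nat.ble (cnt (fun j => cond (Nat.beq (tget Top.Tb β 6) β)
      (Nat.beq (tget Top.Tb (opt P j) 6) (opt P j)) true) m) c = true) :
    Nat.card (Cz ⊓ baseStab ρ base : Subgroup Cfsg.Spor.He) ≤
      c * Nat.card (Cz ⊓ baseStab ρ (base ++ [β]) : Subgroup Cfsg.Spor.He) := by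
  have horb := card_orb_mul (ρ := ρ) (baseStab ρ base) β
  rw [← baseStab_snoc, hB, hA, hAB] at horb
  have hlist := matches_ρ.orb_eq_list hc hl (matches_ρ.ev_mem_baseStab hl hf)
    (Nat.le_of_mul_le_mul_right horb.le hB0)
  rw [← card_orb_mul (ρ := ρ) (Cz ⊓ baseStab ρ base) β, baseStab_snoc, inf_assoc]
  refine Nat.mul_le_mul_right _ ?_
  refine le_trans ?_ (Nat.ble_eq.mp hcnt)
  refine le_trans (Set.ncard_le_ncard ?_ (Set.toFinite _))
    (ncard_le_cnt (n := 2058) _ (opt P) m)
  rintro i ⟨g, hg, rfl⟩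
  obtain ⟨hgC, hgB⟩ := Subgroup.mem_inf.mp hg
  have hmem : ρ g β ∈ orb ρ (baseStab ρ base) β := ⟨g, hgB, rfl⟩
  rw [hlist] at hmem
  obtain ⟨j, hj, he⟩ := hmem
  refine ⟨j, hj, ?_, he⟩
  cases hb : Nat.beq (tget Top.Tb β 6) β
  · rfl
  · have hfix := (fix_iff β).mpr (Nat.eq_of_beq_eq_true hb)
    have h2 := (fix_iff _).mp (fix_of_commute hgC hfix)
    rw [cond_true, he, h2, Nat.beq_refl]

theorem card_le_21504 : Nat.card Cz ≤ 21504 := by
  have := card_le.1
  obtain ⟨s1, s2, s3, s4⟩ := stab_cards
  have h4 : Nat.card (Cz ⊓ baseStab ρ [b0, b1, b2, b3] : Subgroup Cfsg.Spor.He) ≤ 1 := by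
    rw [s4, inf_bot_eq, Subgroup.card_bot]
  have h3 := upper_step [b0, b1, b2] b3 s3 (B := 1) (by rw [show [b0, b1, b2] ++ [b3] =
    [b0, b1, b2, b3] from rfl, s4, Subgroup.card_bot]) (m := 16) rfl Nat.one_pos (dm := 4) (gens := H3G)
    (P := H3P) (Inv := H3Inv) (by decide +kernel) (by decide +kernel) (by decide +kernel)
    (c := 16) (by decide +kernel)
  have h2 := upper_step [b0, b1] b2 s2 s3 (m := 90) rfl (by norm_num) (dm := 7) (gens := H2G)
    (P := H2P) (Inv := H2Inv) (by decide +kernel) (by decide +kernel) (by decide +kernel)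
    (c := 2) (by decide +kernel)
  have h1 := upper_step [b0] b1 s1 s2 (m := 1360) rfl (by norm_num) (dm := 11) (gens := H1G)
    (P := H1P) (Inv := H1Inv) (by decide +kernel) (by decide +kernel) (by decide +kernel)
    (c := 16) (by decide +kernel)
  have h0 : Nat.card Cz ≤ 42 * Nat.card (Cz ⊓ baseStab ρ [b0] : Subgroup Cfsg.Spor.He) := by
    rw [show baseStab ρ [b0] = ⊤ ⊓ pstab ρ b0 from rfl, top_inf_eq,
      ← card_orb_mul (ρ := ρ) Cz b0]
    refine Nat.mul_le_mul_right _ ((Set.ncard_le_ncard (t := {i : Fin 2058 | ∃ j < 2058,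
      (fun j => Nat.beq (tget Top.Tb j 6) j) j = true ∧ j = (i : Nat)}) ?_ (Set.toFinite _)).trans
      ((ncard_le_cnt (n := 2058) _ (fun j => j) 2058).trans (Nat.ble_eq.mp (by decide +kernel))))
    rintro i ⟨g, hg, rfl⟩
    have hb : ρ Z b0 = b0 := (fix_iff b0).mpr (Nat.eq_of_beq_eq_true (by decide +kernel))
    refine ⟨_, (ρ g b0).2, ?_, rfl⟩
    show Nat.beq _ _ = true
    rw [(fix_iff _).mp (fix_of_commute hg hb), Nat.beq_refl]
  simp only [List.cons_append, List.nil_append] at h1 h2 h3
  omega

theorem Z_mem_center {w : List Nat} (hl : checkLetters (Lg).length [w] = true)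
    (h : allList (fun b => Nat.beq (follow (tget Top.Tb) b (w ++ [6]))
      (follow (tget Top.Tb) b (6 :: w))) [5, 6, 15, 42] = true) : ev Lg w ∈ Cz := by
  have hl6 : ∀ u ∈ [w ++ [6], 6 :: w], checkLetters (Lg).length [u] = true := by
    intro u hu
    have hw := letters_lt hl w (List.mem_singleton_self _)
    have : ∀ l ∈ u, l < (Lg).length := by
      intro l hlu
      rcases List.mem_cons.mp hu with rfl | hu
      · rcases List.mem_append.mp hlu with h | h
        · exact hw l h
        · rw [List.mem_singleton.mp h, len_Lg]; norm_num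
      · rw [List.mem_singleton.mp hu] at hlu
        rcases List.mem_cons.mp hlu with h | h
        · rw [h, len_Lg]; norm_num
        · exact hw l h
    exact allList_iff.mpr fun v hv => allList_iff.mpr fun l hl' => Nat.ble_eq.mpr
      (this l (List.mem_singleton.mp hv ▸ hl'))
  have he := matches_ρ.ev_eq_of_base base_bot (hl6 _ (by simp)) (hl6 _ (by simp)) h
  rw [Subgroup.mem_centralizer_singleton_iff]
  simpa [Z, ev_append] using he

theorem cg_mem (k : Nat) : ev Lg (Cg.getD k []) ∈ Cz := by
  match k with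
  | 0 => exact Z_mem_center (by decide +kernel) (by decide +kernel)
  | 1 => exact Z_mem_center (by decide +kernel) (by decide +kernel)
  | 2 => exact Z_mem_center (by decide +kernel) (by decide +kernel)
  | 3 => exact Z_mem_center (by decide +kernel) (by decide +kernel)
  | k + 4 => simp [Cg]

/-- The generators, inside the centraliser. -/
noncomputable def Lc : List Cz :=
  [⟨_, cg_mem 0⟩, ⟨_, cg_mem 1⟩, ⟨_, cg_mem 2⟩, ⟨_, cg_mem 3⟩]

theorem len_Lc : (Lc).length = 4 := rfl

theorem coe_fl (k : Nat) : ((fl Lc k : Cz) : Cfsg.Spor.He) = ev Lg (Cg.getD k []) := by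
  match k with
  | 0 => rfl
  | 1 => rfl
  | 2 => rfl
  | 3 => rfl
  | k + 4 => simp [fl, Lc, Cg]

theorem coe_ev (w : List Nat) : ((ev Lc w : Cz) : Cfsg.Spor.He) = ev Lg (flatC w) := by
  induction w with
  | nil => simp [flatC]
  | cons k w ih => simp [flatC, ev_append, coe_fl, ih]

theorem lower_step {base : List (Fin 2058)} {β : Fin 2058} {m dm : Nat} {gens : List (List Nat)}
    {P Inv : Nat → Nat} (hc : checkOrbit Top.Tb β m dm (gens.map flatC) P Inv = true)
    (hl : checkLetters (Lg).length (gens.map flatC) = true)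
    (hf : checkFix Top.Tb (base.map Fin.val) (gens.map flatC) = true) {M : Nat}
    (hM : M ≤ Nat.card ((Subgroup.closure {x | x ∈ Lc}).map Cz.subtype ⊓
      baseStab ρ (base ++ [β]) : Subgroup Cfsg.Spor.He)) :
    m * M ≤ Nat.card ((Subgroup.closure {x | x ∈ Lc}).map Cz.subtype ⊓ baseStab ρ base :
      Subgroup Cfsg.Spor.He) := by
  refine orbit_step_in matches_ρ _ hc hl hf ?_ hM
  intro w hw
  obtain ⟨u, -, rfl⟩ := List.mem_map.mp hw
  refine ⟨ev Lc u, ?_, coe_ev u⟩
  clear hw
  induction u with
  | nil => exact one_mem _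
  | cons k u ih =>
    rw [ev_cons]
    exact mul_mem (mem_closure_fl k) ih

theorem card_Cz : Nat.card Cz = 21504 ∧ Subgroup.closure {x | x ∈ Lc} = ⊤ := by
  have := card_le.1
  have h4 : 1 ≤ Nat.card ((Subgroup.closure {x | x ∈ Lc}).map Cz.subtype ⊓
      baseStab ρ [b0, b1, b2, b3] : Subgroup Cfsg.Spor.He) := Nat.card_pos
  have h3 := lower_step (base := [b0, b1, b2]) (β := b3) (m := 16) (dm := 4) (gens := C3G)
    (P := C3P) (Inv := C3Inv) (by decide +kernel) (by decide +kernel) (by decide +kernel) h4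
  have h2 := lower_step (base := [b0, b1]) (β := b2) (m := 2) (dm := 1) (gens := C2G)
    (P := C2P) (Inv := C2Inv) (by decide +kernel) (by decide +kernel) (by decide +kernel) h3
  have h1 := lower_step (base := [b0]) (β := b1) (m := 16) (dm := 4) (gens := C1G)
    (P := C1P) (Inv := C1Inv) (by decide +kernel) (by decide +kernel) (by decide +kernel) h2
  have h0 := lower_step (base := []) (β := b0) (m := 42) (dm := 6) (gens := C0G)
    (P := C0P) (Inv := C0Inv) (by decide +kernel) (by decide +kernel) (by decide +kernel) h1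
  have e : (Subgroup.closure {x | x ∈ Lc}).map Cz.subtype ⊓ baseStab ρ ([] : List (Fin 2058)) =
      (Subgroup.closure {x | x ∈ Lc}).map Cz.subtype := by simp [baseStab]
  rw [e, Subgroup.card_subtype] at h0
  have hle := card_le_21504
  have hsub := Subgroup.card_le_card_group (Subgroup.closure {x | x ∈ Lc})
  exact ⟨by omega, Subgroup.eq_top_of_card_eq _ (by omega)⟩

/-! ### The action on sixteen cosets -/

/-- A subgroup of index sixteen. -/
noncomputable def K : Subgroup Cz := genW Lc kidx

/-- Coset representatives. -/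
noncomputable def t (v : Fin 16) : Cz := ev Lc (tidx.getD v [])

/-- The permutations of the generators. -/
def sigF (k : Nat) (v : Fin 16) : Fin 16 := Fin.ofNat 16 ((sig.getD k []).getD v 0)

/-- The cosets. -/
noncomputable def f (v : Fin 16) : Cz ⧸ K := QuotientGroup.mk (t v)

theorem eq_checks : allBelow 2 4 (fun k => allBelow 4 16 fun v =>
    allList (fun b => Nat.beq
      (follow (tget Top.Tb) b (flatC (k :: tidx.getD v [])))
      (follow (tget Top.Tb) b (flatC (tidx.getD ((sig.getD k []).getD v 0) [] ++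
        (((keq.getD k []).getD v []).map fun i => kidx.getD i []).flatten))))
      [5, 6, 15, 42]) = true := by decide +kernel

theorem sig_lt : allBelow 2 4 (fun k => allBelow 4 16 fun v =>
    Nat.ble (Nat.add ((sig.getD k []).getD v 0) 1) 16) = true := by decide +kernel

theorem flatC_letters (w : List Nat) : checkLetters (Lg).length [flatC w] = true := by
  refine allList_iff.mpr fun u hu => allList_iff.mpr fun l hl => Nat.ble_eq.mpr ?_
  rw [List.mem_singleton.mp hu] at hl
  obtain ⟨x, hx, hlx⟩ := List.mem_flatten.mp hl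
  obtain ⟨k, -, rfl⟩ := List.mem_map.mp hx
  exact letters_getD cg_letters k l hlx

theorem gen_smul (k : Nat) (hk : k < 4) (v : Fin 16) : fl Lc k • f v = f (sigF k v) := by
  have h := of_allBelow (of_allBelow eq_checks k hk) v v.2
  have he := matches_ρ.ev_eq_of_base base_bot (flatC_letters _) (flatC_letters _) h
  rw [← coe_ev, ← coe_ev] at he
  have he' : fl Lc k * t v = t (sigF k v) *
      ev Lc (((keq.getD k []).getD v []).map fun i => kidx.getD i []).flatten := by
    have := Subtype.ext he
    rw [ev_cons, ev_append] at this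
    have hlt := Nat.ble_eq.mp (of_allBelow (of_allBelow sig_lt k hk) v v.2)
    rw [t, t, sigF, Fin.val_ofNat, Nat.mod_eq_of_lt (Nat.lt_of_succ_le hlt)]
    exact this
  have hK : ∀ l : List Nat, ev Lc (l.map fun i => kidx.getD i []).flatten ∈ K := by
    intro l
    induction l with
    | nil => simp
    | cons i l ih =>
      rw [List.map_cons, List.flatten_cons, ev_append]
      refine mul_mem ?_ ih
      rcases lt_or_ge i kidx.length with hi | hi
      · rw [List.getD_eq_getElem _ _ hi]; exact ev_mem_genW (List.getElem_mem hi)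
      · rw [List.getD_eq_default _ _ hi]; simp
  rw [f, f, MulAction.Quotient.smul_mk, smul_eq_mul, he', QuotientGroup.mk_mul_of_mem _ (hK _)]

theorem f_surjective : Function.Surjective f := by
  have h1 : QuotientGroup.mk (1 : Cz) ∈ Set.range f := ⟨0, by simp [f, t, tidx]⟩
  have key : ∀ g : Cz, ∀ q ∈ Set.range f, g • q ∈ Set.range f := by
    intro g
    have hg : g ∈ Subgroup.closure {x | x ∈ Lc} := card_Cz.2 ▸ Subgroup.mem_top g
    induction hg using Subgroup.closure_induction with
    | mem x hx =>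
      obtain ⟨k, hk, rfl⟩ := List.getElem_of_mem hx
      rintro _ ⟨v, rfl⟩
      refine ⟨sigF k v, ?_⟩
      rw [← gen_smul k (len_Lc ▸ hk) v, fl, List.getD_eq_getElem _ _ hk]
    | one => intro q hq; rwa [one_smul]
    | mul x y _ _ hx hy => intro q hq; rw [mul_smul]; exact hx _ (hy q hq)
    | inv x _ hx =>
      intro q hq
      have he : (x • ·) '' Set.range f = Set.range f :=
        Set.eq_of_subset_of_ncard_le (Set.image_subset_iff.mpr hx)
          (by rw [Set.ncard_image_of_injective _ (MulAction.injective x)]) (Set.finite_range f)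
      rw [← he] at hq
      obtain ⟨r, hr, rfl⟩ := hq
      rwa [inv_smul_smul]
  intro q
  induction q using QuotientGroup.induction_on with
  | _ g =>
    have := key g _ h1
    rwa [MulAction.Quotient.smul_mk, smul_eq_mul, mul_one] at this

/-- Membership of a pair in the distinguished list. -/
noncomputable def inPairs (p : Nat × Nat) : Bool :=
  List.rec false (fun q _ ih => cond (cond (Nat.beq q.1 p.1) (Nat.beq q.2 p.2) false) true ih) pairs

theorem inPairs_iff {p : Nat × Nat} : inPairs p = true ↔ p ∈ pairs := by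
  have : ∀ l : List (Nat × Nat), (List.rec (motive := fun _ => Bool) false (fun q _ ih =>
      cond (cond (Nat.beq q.1 p.1) (Nat.beq q.2 p.2) false) true ih) l = true ↔ p ∈ l) := by
    intro l
    induction l with
    | nil => simp
    | cons q l ih =>
      cases hq : (cond (Nat.beq q.1 p.1) (Nat.beq q.2 p.2) false)
      · simp only [hq, cond_false, List.mem_cons]
        rw [ih]
        refine ⟨Or.inr, fun h => h.resolve_left fun he => ?_⟩
        rw [he, Nat.beq_refl, cond_true, Nat.beq_refl] at hq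
        exact Bool.false_ne_true hq.symm
      · simp only [hq, cond_true, List.mem_cons, true_iff]
        rw [cond_false_eq_true] at hq
        exact Or.inl (Prod.ext (Nat.eq_of_beq_eq_true hq.1) (Nat.eq_of_beq_eq_true hq.2)).symm
  exact this pairs

/-- The action on pairs by the table. -/
noncomputable def fol2 (w : List Nat) (p : Nat × Nat) : Nat × Nat :=
  (follow (tget Top.Tb) p.1 w, follow (tget Top.Tb) p.2 w)

theorem pairs_closed : allList (fun w => allList (fun p => inPairs (fol2 (flatC w) p)) pairs)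
    kidx = true := by decide +kernel

theorem pairs_separate : allBelow 4 16 (fun u => allBelow 4 16 fun v =>
    cond (Nat.beq u v) (inPairs (fol2 (flatC (tidx.getD v [])) (qs.getD u (0, 0))))
      (cond (inPairs (fol2 (flatC (tidx.getD v [])) (qs.getD u (0, 0)))) false true)) = true := by
  decide +kernel

theorem pairs_lt : allList (fun p => cond (Nat.ble (Nat.add p.1 1) 2058)
    (Nat.ble (Nat.add p.2 1) 2058) false) (qs ++ pairs) = true := by decide +kernel

/-- The permutation of pairs, in the direction of the table. -/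
noncomputable def act2 (g : Cz) (x : Fin 2058 × Fin 2058) : Fin 2058 × Fin 2058 :=
  ((ρ (g : Cfsg.Spor.He))⁻¹ x.1, (ρ (g : Cfsg.Spor.He))⁻¹ x.2)

/-- The pairs as a set. -/
def Bset : Set (Fin 2058 × Fin 2058) := {x | ((x.1 : Nat), (x.2 : Nat)) ∈ pairs}

theorem act2_mul (g h : Cz) (x : Fin 2058 × Fin 2058) : act2 (g * h) x = act2 h (act2 g x) := by
  simp [act2]

theorem act2_ev (w : List Nat) (x : Fin 2058 × Fin 2058) :
    (((act2 (ev Lc w) x).1 : Nat), ((act2 (ev Lc w) x).2 : Nat)) =
      fol2 (flatC w) ((x.1 : Nat), (x.2 : Nat)) := by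
  have hl := letters_lt (flatC_letters w) (flatC w) (List.mem_singleton_self _)
  simp only [act2, fol2, coe_ev, matches_ρ.follow_eq _ _ hl]

theorem K_preserves : ∀ g ∈ K, ∀ x, x ∈ Bset ↔ act2 g x ∈ Bset := by
  intro g hg
  induction hg using Subgroup.closure_induction with
  | mem y hy =>
    obtain ⟨w, hw, rfl⟩ := hy
    have hmaps : Set.MapsTo (act2 (ev Lc w)) Bset Bset := by
      intro x hx
      show _ ∈ pairs
      rw [act2_ev]
      exact inPairs_iff.mp (allList_iff.mp (allList_iff.mp pairs_closed w hw) _ hx)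
    have hinj : Function.Injective (act2 (ev Lc w)) := by
      intro a b h
      simp only [act2, Prod.mk.injEq, EmbeddingLike.apply_eq_iff_eq] at h
      exact Prod.ext h.1 h.2
    have he : act2 (ev Lc w) '' Bset = Bset := Set.eq_of_subset_of_ncard_le hmaps.image_subset
      (by rw [Set.ncard_image_of_injective _ hinj]) (Set.toFinite _)
    intro x
    refine ⟨fun h => hmaps h, fun h => ?_⟩
    rw [← he] at h
    obtain ⟨a, ha, hax⟩ := h
    rwa [← hinj hax]
  | one => intro x; simp [act2]
  | mul a b _ _ ha hb => intro x; rw [ha x, hb, act2_mul]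
  | inv a _ ha =>
    intro x
    rw [ha (act2 a⁻¹ x), ← act2_mul, inv_mul_cancel]
    simp [act2]

theorem f_injective : Function.Injective f := by
  intro v w h
  by_contra hne
  have hK : (t v)⁻¹ * t w ∈ K := QuotientGroup.eq.mp h
  have hu := of_allBelow (of_allBelow pairs_separate v v.2)
  have hv := hu v v.2
  rw [Nat.beq_refl, cond_true] at hv
  have hw := hu w w.2
  have hb : Nat.beq (v : Nat) w = false := by
    cases hh : Nat.beq (v : Nat) w
    · rfl
    · exact absurd (Fin.ext (Nat.eq_of_beq_eq_true hh)) hne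
  rw [hb, cond_false] at hw
  have hlt := allList_iff.mp pairs_lt (qs.getD v (0, 0)) (List.mem_append_left _ (by
    rw [List.getD_eq_getElem _ _ (by simp [qs, v.2])]; exact List.getElem_mem _))
  rw [cond_false_eq_true] at hlt
  let x : Fin 2058 × Fin 2058 :=
    (⟨_, Nat.ble_eq.mp hlt.1⟩, ⟨_, Nat.ble_eq.mp hlt.2⟩)
  have h1 : act2 (t v) x ∈ Bset := by
    show _ ∈ pairs
    rw [t, act2_ev]
    exact inPairs_iff.mp hv
  have h2 := (K_preserves _ hK (act2 (t v) x)).mp h1
  rw [← act2_mul, mul_inv_cancel_left] at h2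
  have h3 : inPairs (fol2 (flatC (tidx.getD w [])) (qs.getD v (0, 0))) = true := by
    refine inPairs_iff.mpr ?_
    have h2' : (((act2 (t w) x).1 : Nat), ((act2 (t w) x).2 : Nat)) ∈ pairs := h2
    rwa [t, act2_ev] at h2'
  rw [h3, cond_true] at hw
  exact Bool.false_ne_true hw

/-- The sixteen cosets, numbered. -/
noncomputable def e16 : Fin 16 ≃ Cz ⧸ K := Equiv.ofBijective f ⟨f_injective, f_surjective⟩

/-- The action on sixteen points. -/
noncomputable def act16 : Cz →* Equiv.Perm (Fin 16) :=
  e16.symm.permCongrHom.toMonoidHom.comp (MulAction.toPermHom Cz (Cz ⧸ K))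

theorem act16_gen (k : Nat) (hk : k < 4) (v : Fin 16) : act16 (fl Lc k) v = sigF k v := by
  show e16.symm (fl Lc k • e16 v) = sigF k v
  rw [Equiv.symm_apply_eq]
  exact gen_smul k hk v

theorem sig_inv : allBelow 2 4 (fun k => allBelow 4 16 fun i =>
    cond (Nat.ble (Nat.add (tget Tb16 i k) 1) 16)
      (Nat.beq ((sig.getD k []).getD (tget Tb16 i k) 0) i) false) = true := by decide +kernel

theorem matches16 : Matches Lc act16 Tb16 := by
  intro k hk i
  rw [len_Lc] at hk
  have h := cond_false_eq_true.mp (of_allBelow (of_allBelow sig_inv k hk) i i.2)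
  have hlt := Nat.ble_eq.mp h.1
  have hj : act16 (fl Lc k) ⟨tget Tb16 i k, hlt⟩ = i := by
    rw [act16_gen k hk]
    refine Fin.ext ?_
    rw [sigF, Fin.val_ofNat, Nat.eq_of_beq_eq_true h.2, Nat.mod_eq_of_lt i.2]
  conv_lhs => rw [← hj]
  simp

theorem act16_injective : Function.Injective act16 := by
  have := card_le.1
  refine (card_eq_and_injective (G := Cz) (N := 21504) (by norm_num) card_Cz.1.le ?_).2
  have h4 := card_ker_le (ρ := act16) [(0 : Fin 16), 2, 4, 8]
  have h3 := orbit_step matches16 (base := [(0 : Fin 16), 2, 4]) (β := 8) (m := 8) (dm := 3)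
    (gens := Q3G) (P := Q3P) (Inv := Q3Inv)
    (by decide +kernel) (by decide +kernel) (by decide +kernel) h4
  have h2 := orbit_step matches16 (base := [(0 : Fin 16), 2]) (β := 4) (m := 12) (dm := 4)
    (gens := Q2G) (P := Q2P) (Inv := Q2Inv)
    (by decide +kernel) (by decide +kernel) (by decide +kernel) h3
  have h1 := orbit_step matches16 (base := [(0 : Fin 16)]) (β := 2) (m := 14) (dm := 4)
    (gens := Q1G) (P := Q1P) (Inv := Q1Inv)
    (by decide +kernel) (by decide +kernel) (by decide +kernel) h2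
  have h0 := orbit_step matches16 (base := []) (β := 0) (m := 16) (dm := 4)
    (gens := Q0G) (P := Q0P) (Inv := Q0Inv)
    (by decide +kernel) (by decide +kernel) (by decide +kernel) h1
  simpa [← mul_assoc] using h0

theorem orderOf_Z : orderOf Z = 2 := by
  refine orderOf_eq_prime ?_ ?_
  · rw [pow_two]; simpa [Z] using sq_all 6
  · intro h
    have hn : ¬ tget Top.Tb (b3 : Fin 2058) 6 = (b3 : Fin 2058) := by decide +kernel
    exact hn ((fix_iff b3).mp (by rw [h, map_one]; rfl))

end CfsgLib.Coset.He.Inv2B
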