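import Cfsg.Agent.Coset.Table
import Cfsg.Agent.Coset.He.Rels
import Cfsg.Agent.Coset.He.TopData

set_option autoImplicit false
set_option maxRecDepth 100000
set_option Elab.async false

namespace CfsgLib.Coset.He.Top

theorem hR : checkRules rels subs R = true := by decide +kernel
theorem hdefs : checkDefs E 7 13 5064 = true := by decide +kernel
theorem hsteps : checkChunks E id R 7 8 5064 220 C = true := by decide +kernel
theorem htable : checkTable E id (5064 + chunk * 220) 2058 7 12 3 Rep Ref Tb = true := by decide +kernel
theorem hperm : checkPerm id 2058 7 12 3 Tb = true := by decide +kernel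
theorem hrels : checkRels 2058 12 Tb rels = true := by decide +kernel
theorem htrans : checkTrans 2058 7 12 Tb Par = true := by decide +kernel

end CfsgLib.Coset.He.Top
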