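import Cfsg.Agent.Coset.Chain
import Cfsg.Agent.Coset.He.Data
import Cfsg.Agent.Coset.He.Top
import Cfsg.Agent.Coset.He.A
import Cfsg.Agent.Coset.He.OrbData
import Cfsg.Prelude.Def_Sporadic

/-! The presented group `Cfsg.Spor.He`: the rank 5 action on 2058 points and the order of `⟨a,b,c,d,e⟩`. -/

set_option autoImplicit false
set_option maxRecDepth 100000
set_option Elab.async false

namespace CfsgLib.Coset.He

/-- The generators. -/
noncomputable abbrev Lg : List Cfsg.Spor.He := pres.gens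

theorem len_Lg : (Lg).length = 7 := rfl

theorem hix : ∀ l < 7, ∃ x, ix x = l := by
  intro l hl
  interval_cases l
  exacts [⟨.a, rfl⟩, ⟨.b, rfl⟩, ⟨.c, rfl⟩, ⟨.d, rfl⟩, ⟨.e, rfl⟩, ⟨.f, rfl⟩, ⟨.g, rfl⟩]

theorem ev_rels : ∀ w ∈ rels, ev Lg w = 1 := rels_eq ▸ pres.ev_rels pres_ok

theorem sq_all (x : Nat) : fl Lg x * fl Lg x = 1 := pres.sq_all pres_ok hix x

theorem inv_all (x : Nat) : fl Lg (id x) = (fl Lg x)⁻¹ := by
  rw [id, inv_eq_of_mul_eq_one_right (sq_all x)]

theorem closure_Lg : Subgroup.closure {x | x ∈ Lg} = ⊤ := pres.closure_gens pres_ok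

/-- The subgroup of index 2058. -/
noncomputable abbrev H : Subgroup Cfsg.Spor.He := genW Lg Top.subs

theorem top_table : TableOK Lg H Top.E id 2058 Top.Rep Top.Tb :=
  tableOK_of_check inv_all Top.hR Top.hdefs Top.hsteps Top.htable ev_rels
    (fun _ hw => ev_mem_genW hw)

theorem perm_rels : ∀ w ∈ pres.rels, ev (sigList Top.hperm) w = 1 := by
  rw [rels_eq]
  exact ev_sigList_eq_one Top.hperm Top.hrels (by decide +kernel)

/-- The action on 2058 points. -/
noncomputable def ρ : Cfsg.Spor.He →* Equiv.Perm (Fin 2058) := pres.hom pres_ok perm_rels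

theorem matches_ρ : Matches Lg ρ Top.Tb :=
  pres.matches_hom pres_ok rfl hix Top.hperm perm_rels

theorem index_and_eq : H.index = 2058 ∧ H = pstab ρ ⟨0, by decide⟩ :=
  exact_index top_table matches_ρ (by decide) Top.htrans closure_Lg
    (genW_le_pstab matches_ρ _ (by decide +kernel) (by decide +kernel))

theorem transitive (i : Fin 2058) : ∃ g, ρ g ⟨0, by decide⟩ = i :=
  (matches_ρ.transitive (by decide) Top.htrans i).imp fun _ h => h.2

theorem subs_letters : checkLetters (Lg).length Top.subs = true := by decide +kernel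

theorem orbits_ok : checkOrbits Top.Tb 12 Top.subs Orb.certs = true := by decide +kernel

theorem cover_ok : checkCover 2058 12 Orb.certs = true := by decide +kernel

theorem rank_five : ∃ q₁ q₂ q₃ q₄ : Cfsg.Spor.He ⧸ H,
    MulAction.orbit H q₁ ≠ MulAction.orbit H q₂ ∧
    (MulAction.orbit H q₁).ncard = 136 ∧ (MulAction.orbit H q₂).ncard = 136 ∧
    (MulAction.orbit H q₃).ncard = 425 ∧ (MulAction.orbit H q₄).ncard = 1360 := by
  have o1 := orbits_ncard matches_ρ orbits_ok subs_letters (c := ⟨46, 136, Orb.H2P, Orb.H2Inv⟩)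
    (by simp [Orb.certs]) 46 rfl
  have o2 := orbits_ncard matches_ρ orbits_ok subs_letters (c := ⟨65, 136, Orb.H3P, Orb.H3Inv⟩)
    (by simp [Orb.certs]) 65 rfl
  have o3 := orbits_ncard matches_ρ orbits_ok subs_letters (c := ⟨2, 425, Orb.H1P, Orb.H1Inv⟩)
    (by simp [Orb.certs]) 2 rfl
  have o4 := orbits_ncard matches_ρ orbits_ok subs_letters (c := ⟨1, 1360, Orb.H0P, Orb.H0Inv⟩)
    (by simp [Orb.certs]) 1 rfl
  obtain ⟨g₁, h₁⟩ := transitive 46
  obtain ⟨g₂, h₂⟩ := transitive 65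
  obtain ⟨g₃, h₃⟩ := transitive 2
  obtain ⟨g₄, h₄⟩ := transitive 1
  refine ⟨QuotientGroup.mk g₁, QuotientGroup.mk g₂, QuotientGroup.mk g₃, QuotientGroup.mk g₄,
    ?_, ?_, ?_, ?_, ?_⟩
  · intro he
    have hmem : (QuotientGroup.mk g₂ : Cfsg.Spor.He ⧸ H) ∈
        MulAction.orbit H (QuotientGroup.mk g₁ : Cfsg.Spor.He ⧸ H) :=
      he ▸ MulAction.mem_orbit_self _
    obtain ⟨h, hh⟩ := hmem
    have hh' : ((h : Cfsg.Spor.He) * g₁)⁻¹ * g₂ ∈ H := QuotientGroup.eq.mp hh
    have hp : ((h : Cfsg.Spor.He) * g₁)⁻¹ * g₂ ∈ pstab ρ ⟨0, by decide⟩ := index_and_eq.2.le hh'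
    rw [mem_pstab, map_mul, map_inv, Equiv.Perm.mul_apply, Equiv.Perm.inv_def,
      Equiv.symm_apply_eq, map_mul, Equiv.Perm.mul_apply, h₁, h₂] at hp
    have h46 : (65 : Fin 2058) ∈ orb ρ H 46 := ⟨h, h.2, hp.symm⟩
    have hc := allList_iff.mp orbits_ok ⟨46, 136, Orb.H2P, Orb.H2Inv⟩ (by simp [Orb.certs])
    simp only [cond_false_eq_true] at hc
    obtain ⟨j, hj, hje⟩ := matches_ρ.orbit_subset (β := (46 : Fin 2058)) hc.2.1 hc.2.2
      subs_letters (by decide) h46
    have hno : allBelow 8 136 (fun j => cond (Nat.beq (opt Orb.H2P j) 65) false true) = true := by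
      decide +kernel
    have hj' := of_allBelow hno j hj
    rw [hje] at hj'
    simp at hj'
  all_goals rw [ncard_orbit_coset index_and_eq.2]
  · rw [h₁]; exact o1
  · rw [h₂]; exact o2
  · rw [h₃]; exact o3
  · rw [h₄]; exact o4

theorem level (n₀ : Nat) {rs₀ : List (List Nat)} (h₀ : ∀ w ∈ rs₀, ev Lg w = 1)
    {S S' : List Nat} {rs subs : List (List Nat)} {E Rep Tb : Nat → Nat}
    {R : Tr (List Nat × Nat)} {d d' N nC dn dk : Nat} {C Ref : Nat → Nat} (k : Nat)
    (hk : S.length = k)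
    (hc : checkLevel rs₀ 7 S S' rs subs = true)
    (hR : checkRules rs subs R = true) (hd : checkDefs E k d' N = true)
    (hs : checkChunks E id R k d N nC C = true)
    (ht : checkTable E id (N + chunk * nC) n₀ k dn dk Rep Ref Tb = true) :
    TableOK (lv Lg S) (genBy Lg S') E id n₀ Rep Tb := by
  have hl : (lv Lg S).length = k := by simp [lv, hk]
  exact tableOK_of_check (inv_lv sq_all S) hR (hl.symm ▸ hd) (hl.symm ▸ hs) (hl.symm ▸ ht)
    (level_rels len_Lg hc h₀) (level_subs len_Lg hc)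

end CfsgLib.Coset.He
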