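import Cfsg.Agent.Coset.He.Order
import Cfsg.Agent.Coset.Sp44.InHe
import Cfsg.Agent.Coset.Sp44.Mat

/-! `Cfsg.Spor.He` as a transitive permutation group of degree 2058. -/

set_option autoImplicit false
set_option maxRecDepth 100000
set_option Elab.async false

namespace CfsgLib.Coset.He

theorem permutation_realization : ∃ K : Subgroup (Equiv.Perm (Fin 2058)), Cfsg.IsHe K ∧
    MulAction.IsPretransitive K (Fin 2058) ∧ ∃ (F : Type) (_ : Field F) (_ : Fintype F),
      Fintype.card F = 4 ∧ ∃ N : Subgroup (MulAction.stabilizer K (0 : Fin 2058)), N.index = 2 ∧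
        Nonempty (N ≃* Matrix.symplecticGroup (Fin 2) F) := by
  have := card_le.1
  let e : Cfsg.Spor.He ≃* ρ.range := MonoidHom.ofInjective card_and_injective.2
  have hst : H.map (e : Cfsg.Spor.He →* ρ.range) = MulAction.stabilizer ρ.range (0 : Fin 2058) := by
    ext x
    rw [Subgroup.mem_map, MulAction.mem_stabilizer_iff]
    constructor
    · rintro ⟨g, hg, rfl⟩
      exact index_and_eq.2.le hg
    · intro hx
      refine ⟨e.symm x, index_and_eq.2.ge ?_, e.apply_symm_apply x⟩
      rw [mem_pstab]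
      have : ρ (e.symm x) = (x : Equiv.Perm (Fin 2058)) :=
        congrArg Subtype.val (e.apply_symm_apply x)
      rw [this]; exact hx
  let f : H ≃* MulAction.stabilizer ρ.range (0 : Fin 2058) :=
    (e.subgroupMap H).trans (MulEquiv.subgroupCongr hst)
  obtain ⟨e1⟩ := Sp44.nonempty_equiv_N
  obtain ⟨e2⟩ := Sp44.nonempty_equiv
  refine ⟨ρ.range, ⟨?_, ?_⟩, ⟨fun a b => ?_⟩, G24.F4, inferInstance, inferInstance, G24.F4.card_eq,
    (Sp44.N.subgroupOf H).map (f : H →* _), ?_,
    ⟨((Sp44.N.subgroupOf H).equivMapOfInjective _ f.injective).symm.trans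
      ((Subgroup.subgroupOfEquivOfLe Sp44.N_le).trans (e1.symm.trans e2))⟩⟩
  · exact e.isSimpleGroup_congr.mp isSimple
  · rw [← Nat.card_congr e.toEquiv, card_and_injective.1]
  · obtain ⟨g, hg⟩ := transitive a
    obtain ⟨g', hg'⟩ := transitive b
    refine ⟨⟨ρ (g' * g⁻¹), ⟨_, rfl⟩⟩, ?_⟩
    show ρ (g' * g⁻¹) a = b
    rw [← hg, map_mul, map_inv, Equiv.Perm.mul_apply, Equiv.Perm.inv_def,
      Equiv.symm_apply_apply, hg']
  · rw [Subgroup.index_map_equiv, Sp44.index_two]

end CfsgLib.Coset.He
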